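import Groth.Agent.H28NT.Connectedness
import Groth.Agent.H10Coh.Proper2
import Groth.Agent.H10Coh.Proj.Coherent
import Groth.Agent.H10Coh.FinType2
import Groth.Agent.H10Coh.Pn.Results
import Groth.Agent.LeadFF.ProperSupp
import Groth.Agent.LeadVan.Supported
import Groth.Agent.LeadBC.TrivInv
import Groth.Agent.H7Flat.CohDim.AffineStrat
import Groth.Agent.H11Ample.Tensor
import Groth.Agent.H29Fitt.PullbackQCoh
import Groth.Agent.H10Coh.FibreLift.MonoEpi

/-!
# Invertible modules trivial on a closed fibre of dimension at most one with `H¹(O) = 0`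
-/

set_option autoImplicit false
set_option linter.style.haveILetI false
set_option linter.unusedSectionVars false

noncomputable section

universe u

open CategoryTheory CategoryTheory.Limits AlgebraicGeometry Opposite TopologicalSpace

namespace Groth.Agent.LeadR1

open Groth.Agent.H11Tilde Groth.Agent.H11Ample Groth.Agent.LeadFF

attribute [local instance 10000] H10Coh.hasSheafifyAb H10Coh.hasWeakSheafifyAb H10Coh.hasExtAb H10Coh.enoughInjAb

theorem subsingleton_HH_of_epi {X : Scheme.{u}} {E N : X.Modules} (π : E ⟶ N) [Epi π] (p : ℕ)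
    (hE : Subsingleton (Coh.HH X E p)) (hK : Subsingleton (Coh.HH X (kernel π) (p + 1))) :
    Subsingleton (Coh.HH X N p) := by
  let S := ShortComplex.mk (kernel.ι π) π (kernel.condition π)
  have hS : S.ShortExact := { exact := ShortComplex.exact_of_f_is_kernel _ (kernelIsKernel π) }
  refine subsingleton_of_forall_eq 0 fun x => ?_
  haveI : Subsingleton (Coh.HH X S.X₁ (p + 1)) := hK
  obtain ⟨y, hy⟩ := exists_Hm_g hS p x (Subsingleton.elim _ _)
  haveI : Subsingleton (Coh.HH X S.X₂ p) := hE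
  rw [← hy, Subsingleton.elim y 0]
  exact map_zero (Sheaf.H.map ((H10Coh.shF X).map S.g) p)

theorem Hm_sum {X : Scheme.{u}} {M N : X.Modules} {r : ℕ} (g : Fin r → (M ⟶ N)) (p : ℕ) (x : Coh.HH X M p) :
    Hm (∑ i, g i) p x = ∑ i, Hm (g i) p x :=
  map_sum (AddMonoidHom.mk' (fun φ : M ⟶ N => Hm φ p x) fun a b => Hm_add a b p x) g Finset.univ

set_option maxRecDepth 4000 in
theorem sum_π_ι {X : Scheme.{u}} {r : ℕ} (M : Fin r → X.Modules) :
    ∑ i, ((biproduct.isoCoproduct M).inv ≫ biproduct.π M i) ≫ Sigma.ι M i = 𝟙 (∐ M) := by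
  have hι : ∀ i, Sigma.ι M i = biproduct.ι M i ≫ (biproduct.isoCoproduct M).hom := fun i => by
    rw [biproduct.isoCoproduct_hom, biproduct.ι_desc]
  simp only [Category.assoc]
  simp only [hι, ← Category.assoc (biproduct.π M _)]
  rw [← Preadditive.comp_sum, ← Preadditive.sum_comp, biproduct.total, Category.id_comp, Iso.inv_hom_id]

theorem subsingleton_HH_coprod {X : Scheme.{u}} {r : ℕ} (M : Fin r → X.Modules) (p : ℕ)
    (h : ∀ i, Subsingleton (Coh.HH X (M i) p)) : Subsingleton (Coh.HH X (∐ M) p) := by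
  refine subsingleton_of_forall_eq 0 fun x => ?_
  rw [← Hm_id (∐ M) p x, ← sum_π_ι M, Hm_sum]
  refine Finset.sum_eq_zero fun i _ => ?_
  haveI := h i
  rw [Hm_comp, Subsingleton.elim (Hm ((biproduct.isoCoproduct M).inv ≫ biproduct.π M i) p x) 0]
  exact map_zero (Sheaf.H.map ((H10Coh.shF X).map (Sigma.ι M i)) p)

variable {O : Type u} [CommRing O] [IsNoetherianRing O] [IsLocalRing O]
  {X : Scheme.{u}} [X.Over (Spec (CommRingCat.of O))] [IsProper (X ↘ Spec (CommRingCat.of O))]

/-- Nothing above the dimension of the closed fibre. -/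
theorem subsingleton_HH_above {d : ℕ}
    (hd : topologicalKrullDim ↥((X ↘ Spec (CommRingCat.of O)).base ⁻¹' {IsLocalRing.closedPoint O}) ≤ d)
    {M : X.Modules} (hM : Coh.IsCoh M) {p : ℕ} (hp : d < p) : Subsingleton (Coh.HH X M p) := by
  let π := X ↘ Spec (CommRingCat.of O)
  haveI : IsLocallyNoetherian X := LocallyOfFiniteType.isLocallyNoetherian π
  haveI : CompactSpace X := QuasiCompact.compactSpace_of_compactSpace π
  haveI : IsNoetherian X := ⟨⟩
  haveI : TopologicalSpace.NoetherianSpace ↥X.toPresheafedSpace := inferInstance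
  have hZ : IsClosed (π.base ⁻¹' {IsLocalRing.closedPoint O}) :=
    (IsLocalRing.isClosed_singleton_closedPoint O).preimage π.continuous
  have hvan : ∀ n, Subsingleton (Formal.HHmodPow (IsLocalRing.maximalIdeal O) M p n) := fun n =>
    LeadVan.subsingleton_H_of_supported (X := X.toPresheafedSpace.carrier) hZ d hd _
      (fun U hU s => H28NT.section_modPow_eq_zero _ _ _ (fun x hx => by
        by_contra hna
        push Not at hna
        refine hU x hx (PrimeSpectrum.ext (((IsLocalRing.maximalIdeal.isMaximal O).eq_of_le (π.base x).isPrime.ne_top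
          fun a ha => ?_).symm))
        by_contra h
        exact hna a ha ((H28NT.mem_basicOpen_toGlobal_iff x a).2 h)) s) p hp
  haveI : Subsingleton (Formal.HHlim (IsLocalRing.maximalIdeal O) M p) :=
    ⟨fun a b => Subtype.ext (funext fun n => (hvan n).elim _ _)⟩
  haveI : Module.Finite O (Coh.HH X M p) := H10Coh.finite_HH_proper O X M hM p
  haveI : Subsingleton (AdicCompletion (IsLocalRing.maximalIdeal O) (Coh.HH X M p)) :=
    (fromCompletion_injective (IsLocalRing.maximalIdeal O) M p (properCoh_of_isProper _ hM)).subsingleton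
  exact (AdicCompletion.of_injective (IsLocalRing.maximalIdeal O) (Coh.HH X M p)).subsingleton

variable {X₀ : Scheme.{u}} (h : X₀ ⟶ X) [IsClosedImmersion h]
  (h0 : ∀ (a : O), a ∈ IsLocalRing.maximalIdeal O → ∀ W : X.Opens,
    h.app W (scal (X ↘ Spec (CommRingCat.of O)) W a) = 0)
  (hker : ∀ W : X.Opens, IsAffineOpen W → ∀ b : Γ(X, W), h.app W b = 0 →
    b ∈ (IsLocalRing.maximalIdeal O).map (scal (X ↘ Spec (CommRingCat.of O)) W))
  (hrange : ∀ x : X, (X ↘ Spec (CommRingCat.of O)).base x = IsLocalRing.closedPoint O → x ∈ Set.range h.base)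
  (hd : topologicalKrullDim ↥((X ↘ Spec (CommRingCat.of O)).base ⁻¹' {IsLocalRing.closedPoint O}) ≤ (1 : ℕ))
  {L : X.Modules} (hL : PicF.IsInvertible L)

/-- Restriction of a module to a subscheme. -/
abbrev ηu (L : X.Modules) : L ⟶ (Scheme.Modules.pushforward h).obj ((Scheme.Modules.pullback h).obj L) :=
  (Scheme.Modules.pullbackPushforwardAdjunction h).unit.app L

include hL in
theorem exists_affine_gen (W : X.Opens) {x : X} (hx : x ∈ W) :
    ∃ (V : X.Opens) (e : Γ(L, V)), IsAffineOpen V ∧ x ∈ V ∧ V ≤ W ∧ IsGen L e := by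
  obtain ⟨U, e, hxU, he⟩ := H11Ample.exists_gen hL x
  obtain ⟨V, hV, hxV, hle⟩ := exists_isAffineOpen_mem_and_subset (U := W ⊓ U) (x := x) ⟨hx, hxU⟩
  exact ⟨V, L.presheaf.map (homOfLE (show V ≤ U from fun y hy => (hle hy).2)).op e, hV, hxV,
    fun y hy => (hle hy).1, he.res _⟩

include hL in
theorem epi_η : Epi (ηu h L) := by
  refine epi_of_locally_surjective _ fun W t x hx => ?_
  obtain ⟨V, e, hV, hxV, hle, he⟩ := exists_affine_gen hL W hx
  let t' : Γ((Scheme.Modules.pullback h).obj L, h ⁻¹ᵁ V) :=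
    ((Scheme.Modules.pushforward h).obj ((Scheme.Modules.pullback h).obj L)).presheaf.map (homOfLE hle).op t
  obtain ⟨c, hc⟩ := exists_coeff (he.pullSect h) t'
  obtain ⟨b, rfl⟩ := h.app_surjective V hV c
  exact ⟨V, hle, hxV, b • e, (OmegaSh.pullSect_smul h L V b e).trans hc.symm⟩

include h0 hker hd hL in
/-- The kernel of restriction to the closed fibre receives finitely many copies of `L`. -/
theorem exists_cover : ∃ (r : ℕ) (a : Fin r → O) (φ : (∐ fun _ : Fin r => L) ⟶ kernel (ηu h L)),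
    (∀ j, a j ∈ IsLocalRing.maximalIdeal O) ∧ Epi φ ∧
      φ ≫ kernel.ι (ηu h L) = Sigma.desc fun j => Formal.smulMod O L (a j) := by
  obtain ⟨r, a, ha⟩ := Submodule.fg_iff_exists_fin_generating_family.1
    (IsNoetherian.noetherian (IsLocalRing.maximalIdeal O))
  have haM : ∀ j, a j ∈ IsLocalRing.maximalIdeal O := fun j => ha ▸ Submodule.subset_span ⟨j, rfl⟩
  have hz : Sigma.desc (fun j => Formal.smulMod O L (a j)) ≫ (ηu h L) = 0 := by
    refine Sigma.hom_ext _ _ fun j => ?_
    rw [Sigma.ι_desc_assoc, comp_zero]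
    refine hom_ext_sections _ _ fun U m => ?_
    show OmegaSh.pullSect h L U (scal (X ↘ Spec (CommRingCat.of O)) U (a j) • m) = 0
    rw [OmegaSh.pullSect_smul, h0 _ (haM j)]
    exact zero_smul Γ(X₀, h ⁻¹ᵁ U) _
  refine ⟨r, a, kernel.lift (ηu h L) _ hz, haM, ?_, kernel.lift_ι _ _ _⟩
  refine epi_of_locally_surjective _ fun W t x hx => ?_
  obtain ⟨V, e, hV, hxV, hle, he⟩ := exists_affine_gen hL W hx
  let t' : Γ(kernel (ηu h L), V) := (kernel (ηu h L)).presheaf.map (homOfLE hle).op t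
  obtain ⟨p, hp⟩ := exists_coeff he ((kernel.ι (ηu h L)).app V t')
  have hp0 : h.app V p = 0 := by
    have h1 : OmegaSh.pullSect h L V (p • e) = 0 := by
      rw [← hp]
      exact congr($(congrArg (fun k => Scheme.Modules.Hom.app k V) (kernel.condition (ηu h L))) t')
    rw [OmegaSh.pullSect_smul] at h1
    refine ((he.pullSect h).bijective le_rfl).1 ?_
    beta_reduce
    rw [H10Coh.mres_self, h1]
    exact (zero_smul Γ(X₀, h ⁻¹ᵁ V) _).symm
  have hmem : p ∈ Submodule.span Γ(X, V) (Set.range fun j => scal (X ↘ Spec (CommRingCat.of O)) V (a j)) := by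
    have h2 := hker V hV p hp0
    rw [← ha, Ideal.submodule_span_eq, Ideal.map_span, ← Set.range_comp] at h2
    exact h2
  obtain ⟨c, hc⟩ := Submodule.mem_span_range_iff_exists_fun _ |>.1 hmem
  refine ⟨V, hle, hxV, ∑ j, (Sigma.ι (fun _ : Fin r => L) j).app V (c j • e), ?_⟩
  refine H10Coh.FibreLift.app_injective_of_mono (kernel.ι (ηu h L)) V ?_
  show (kernel.ι (ηu h L)).app V ((kernel.lift (ηu h L) _ hz).app V _) = (kernel.ι (ηu h L)).app V t'
  rw [hp, ← hc, Finset.sum_smul, map_sum, map_sum]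
  refine Finset.sum_congr rfl fun j _ => ?_
  refine (congr($(congrArg (fun k => Scheme.Modules.Hom.app k V)
    (kernel.lift_ι (ηu h L) _ hz)) ((Sigma.ι (fun _ : Fin r => L) j).app V (c j • e)))).trans ?_
  refine (congr($(congrArg (fun k => Scheme.Modules.Hom.app k V)
    (Sigma.ι_desc (fun j => Formal.smulMod O L (a j)) j)) (c j • e))).trans ?_
  show scal (X ↘ Spec (CommRingCat.of O)) V (a j) • c j • e = (c j • scal (X ↘ Spec (CommRingCat.of O)) V (a j)) • e
  rw [smul_eq_mul, mul_comm, mul_smul]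

include h0 hker hrange hd hL in
/-- An invertible module trivial on the closed fibre is trivial. -/
theorem exists_gen_top (τ : (Scheme.Modules.pullback h).obj L ≅ Coh.structureModule X₀)
    (h1 : Subsingleton (Coh.HH X₀ (Coh.structureModule X₀) 1)) : ∃ s : Γ(L, ⊤), gen L s = ⊤ := by
  haveI : IsLocallyNoetherian X := LocallyOfFiniteType.isLocallyNoetherian (X ↘ Spec (CommRingCat.of O))
  haveI := epi_η h hL
  obtain ⟨r, a, φ, ha, hφe, hφ⟩ := exists_cover h h0 hker hd hL
  haveI := hφe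
  have hLc := isCoh_of_isInvertible hL
  let L₀ := (Scheme.Modules.pullback h).obj L
  haveI : L₀.IsQuasicoherent := H29Fitt.isQCoh_pullback h L hLc.1
  have hK : Coh.IsCoh (kernel (ηu h L)) :=
    H10Coh.isCoh_kernel _ hLc (H10Coh.isQuasicoherent_pushforward_of_isAffineHom h L₀)
  have hE : Coh.IsCoh (∐ fun _ : Fin r => L) := H10Coh.isCoh_sigma _ fun _ => hLc
  have hKφ : Coh.IsCoh (kernel φ) := H10Coh.isCoh_kernel _ hE hK.1
  have hL0 : Subsingleton (Coh.HH X ((Scheme.Modules.pushforward h).obj L₀) 1) :=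
    H7Flat.CohDim.subsingleton_HH_push_closed h L₀ 1 (H10Coh.subsingleton_HH_of_iso τ.symm 1 h1)
  have hS : (ShortComplex.mk (kernel.ι (ηu h L)) (ηu h L) (kernel.condition (ηu h L))).ShortExact :=
    { exact := ShortComplex.exact_of_f_is_kernel _ (kernelIsKernel (ηu h L)) }
  -- Nakayama
  haveI : Module.Finite O (Coh.HH X L 1) := H10Coh.finite_HH_proper O X L hLc 1
  have hL1 : Subsingleton (Coh.HH X L 1) := by
    refine subsingleton_of_forall_eq 0 fun x => ?_
    have htop : (⊤ : Submodule O (Coh.HH X L 1)) ≤ IsLocalRing.maximalIdeal O • ⊤ := fun x _ => by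
      obtain ⟨y, rfl⟩ := exists_Hm_f hS 1 x (Subsingleton.elim (h := hL0) _ _)
      let S' := ShortComplex.mk (kernel.ι φ) φ (kernel.condition φ)
      have hS' : S'.ShortExact := { exact := ShortComplex.exact_of_f_is_kernel _ (kernelIsKernel φ) }
      haveI : Subsingleton (Coh.HH X S'.X₁ (1 + 1)) := subsingleton_HH_above hd hKφ (by omega)
      obtain ⟨w, rfl⟩ := exists_Hm_g hS' 1 y (Subsingleton.elim _ _)
      show Hm (kernel.ι (ηu h L)) 1 (Hm φ 1 w) ∈ _
      rw [← Hm_comp, hφ, ← Category.id_comp (Sigma.desc fun j => Formal.smulMod O L (a j)), ← sum_π_ι,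
        Preadditive.sum_comp, Hm_sum]
      refine sum_mem fun j _ => ?_
      rw [Category.assoc, Sigma.ι_desc, Hm_smulMod']
      exact Submodule.smul_mem_smul (ha j) trivial
    have hbot := Submodule.eq_bot_of_le_smul_of_le_jacobson_bot (IsLocalRing.maximalIdeal O) ⊤
      Module.Finite.fg_top htop (IsLocalRing.maximalIdeal_le_jacobson _)
    exact (Submodule.mem_bot O).1 (hbot ▸ (Submodule.mem_top : x ∈ (⊤ : Submodule O _)))
  have hK1 : Subsingleton (Coh.HH X (kernel (ηu h L)) 1) :=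
    subsingleton_HH_of_epi φ 1 (subsingleton_HH_coprod _ 1 fun _ => hL1)
      (subsingleton_HH_above hd hKφ (by omega))
  let g₀ : Γ(L₀, ⊤) := τ.inv.app ⊤ (H11Ample.one ⊤)
  have hg₀ : IsGen L₀ g₀ := isGen_map_iso τ.symm (isGen_one ⊤)
  obtain ⟨w, hw⟩ := exists_Hm_g hS 0 ((H10Coh.HH0Equiv ((Scheme.Modules.pushforward h).obj L₀)).symm g₀)
    (Subsingleton.elim (h := hK1) _ _)
  let s : Γ(L, ⊤) := H10Coh.HH0Equiv L w
  have hs : OmegaSh.pullSect h L ⊤ s = g₀ :=
    ((H28NT.HH0Equiv_map (ηu h L) w).symm.trans (congrArg (H10Coh.HH0Equiv _) hw)).trans (AddEquiv.apply_symm_apply _ _)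
  refine ⟨s, top_le_iff.1 fun x _ => ?_⟩
  by_contra hx
  let π := X ↘ Spec (CommRingCat.of O)
  have hC : IsClosed (π '' ((gen L s : Set X)ᶜ)) := π.isClosedMap _ (gen L s).isOpen.isClosed_compl
  obtain ⟨x', hx', hxc⟩ := (IsLocalRing.specializes_closedPoint (π x)).mem_closed hC ⟨x, hx, rfl⟩
  obtain ⟨y, rfl⟩ := hrange x' hxc
  refine hx' ?_
  obtain ⟨U, e, hyU, he⟩ := H11Ample.exists_gen hL (h y)
  obtain ⟨p, hp⟩ := exists_coeff he (L.presheaf.map (homOfLE (le_top : U ≤ ⊤)).op s)
  refine ((gen_inf_eq_basicOpen he s p hp).ge (show h y ∈ X.basicOpen p from ?_)).1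
  show y ∈ h ⁻¹ᵁ X.basicOpen p
  rw [Scheme.preimage_basicOpen]
  refine (bijective_smul_iff (he.pullSect h) _ hyU).1 ?_
  rw [← OmegaSh.pullSect_smul, ← hp, pullSect_res, TopCat.Presheaf.germ_res_apply, hs]
  exact hg₀ y trivial

end Groth.Agent.LeadR1
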