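import Groth.Agent.LeadR1.Local
import Groth.Agent.H10Coh.FlatBC.FlatSheaf
import Groth.Agent.H10Coh.SheafHom.EndInvertible
import Groth.Agent.H11Tilde.ProjUP
import Groth.Agent.LeadFF.BaseChange

/-!
# Fibrewise trivial invertible modules when `f_* O = O` and fibres are curves with `H¹(O) = 0`
-/

set_option autoImplicit false
set_option linter.style.haveILetI false
set_option linter.unusedSectionVars false

noncomputable section

universe u

open CategoryTheory CategoryTheory.Limits AlgebraicGeometry Opposite TopologicalSpace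
open scoped TensorProduct

namespace Groth.Agent.LeadR1

open Groth.Agent.H11Tilde Groth.Agent.H11Ample Groth.Agent.LeadFF

attribute [local instance 10000] H10Coh.hasSheafifyAb H10Coh.hasWeakSheafifyAb H10Coh.hasExtAb H10Coh.enoughInjAb

variable {X Y : Scheme.{u}} (f : X ⟶ Y)

/-- The projection formula for invertible modules when `f_* O = O`. -/
theorem isIso_unit (hO : ∀ U : Y.Opens, IsIso (f.app U)) {N : Y.Modules} (hN : PicF.IsInvertible N) :
    IsIso ((Scheme.Modules.pullbackPushforwardAdjunction f).unit.app N) := by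
  refine H10Coh.SheafHom.isIso_of_bijective_basis _ (fun U => ∃ e : Γ(N, U), IsGen N e) (fun W x hx => ?_) ?_
  · obtain ⟨U, e, hxU, he⟩ := H11Ample.exists_gen hN x
    exact ⟨W ⊓ U, ⟨_, he.res inf_le_right⟩, ⟨hx, hxU⟩, inf_le_left⟩
  · rintro U ⟨e, he⟩
    haveI := hO U
    have hf : Function.Bijective (f.app U) := ConcreteCategory.bijective_of_isIso (f.app U)
    let e' : Γ((Scheme.Modules.pullback f).obj N, f ⁻¹ᵁ U) := OmegaSh.pullSect f N U e
    have h1 : Function.Bijective fun c : Γ(X, f ⁻¹ᵁ U) => c • e' := by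
      refine Eq.mpr (congrArg Function.Bijective (funext fun c => ?_)) ((he.pullSect f).bijective le_rfl)
      rw [H10Coh.mres_self]
    refine ⟨fun m m' hm => ?_, fun z => ?_⟩
    · obtain ⟨c, rfl⟩ := exists_coeff he m
      obtain ⟨c', rfl⟩ := exists_coeff he m'
      have h2 : f.app U c • e' = f.app U c' • e' :=
        (OmegaSh.pullSect_smul f N U c e).symm.trans (hm.trans (OmegaSh.pullSect_smul f N U c' e))
      rw [hf.1 (h1.1 h2)]
    · obtain ⟨c, rfl⟩ := h1.2 z
      obtain ⟨b, rfl⟩ := hf.2 c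
      exact ⟨b • e, OmegaSh.pullSect_smul f N U b e⟩

theorem injective_pullback (hO : ∀ U : Y.Opens, IsIso (f.app U)) {N N' : Y.Modules} (hN : PicF.IsInvertible N)
    (hN' : PicF.IsInvertible N')
    (h : Nonempty ((Scheme.Modules.pullback f).obj N ≅ (Scheme.Modules.pullback f).obj N')) : Nonempty (N ≅ N') := by
  obtain ⟨e⟩ := h
  haveI := isIso_unit f hO hN
  haveI := isIso_unit f hO hN'
  exact ⟨asIso ((Scheme.Modules.pullbackPushforwardAdjunction f).unit.app N) ≪≫
    (Scheme.Modules.pushforward f).mapIso e ≪≫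
    (asIso ((Scheme.Modules.pullbackPushforwardAdjunction f).unit.app N')).symm⟩

theorem ker_app_of_surjective {O K : Type u} [CommRing O] [CommRing K] {φ : O →+* K}
    (hφ : Function.Surjective φ) {Z Z₀ : Scheme.{u}} {q : Z₀ ⟶ Z} {π : Z ⟶ Spec (CommRingCat.of O)}
    {p : Z₀ ⟶ Spec (CommRingCat.of K)} (hsq : IsPullback q p π (Spec.map (CommRingCat.ofHom φ)))
    {W : Z.Opens} (hW : IsAffineOpen W) (b : Γ(Z, W)) (hb : q.app W b = 0) :
    b ∈ (RingHom.ker φ).map (scal π W) := by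
  have hpo := isPushout_scal hsq hW
  letI : Algebra O K := φ.toAlgebra
  letI : Algebra O Γ(Z, W) := (scal π W).toAlgebra
  letI : Algebra Γ(Z, W) Γ(Z₀, q ⁻¹ᵁ W) := (q.app W).hom.toAlgebra
  letI : Algebra K Γ(Z₀, q ⁻¹ᵁ W) := (scal p (q ⁻¹ᵁ W)).toAlgebra
  letI : Algebra O Γ(Z₀, q ⁻¹ᵁ W) := ((scal p (q ⁻¹ᵁ W)).comp φ).toAlgebra
  haveI : IsScalarTower O Γ(Z, W) Γ(Z₀, q ⁻¹ᵁ W) := .of_algebraMap_eq fun a => (app_scal hsq W a).symm
  haveI : IsScalarTower O K Γ(Z₀, q ⁻¹ᵁ W) := .of_algebraMap_eq fun _ => rfl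
  haveI h1 : Algebra.IsPushout O Γ(Z, W) K Γ(Z₀, q ⁻¹ᵁ W) :=
    CommRingCat.isPushout_iff_isPushout.mp (by simpa using! hpo)
  let e : Γ(Z, W) ⊗[O] K ≃ₐ[Γ(Z, W)] Γ(Z₀, q ⁻¹ᵁ W) := Algebra.IsPushout.equiv O Γ(Z, W) K _
  have hb' : b ⊗ₜ[O] (1 : K) = 0 := by
    apply e.injective
    rw [map_zero, show b ⊗ₜ[O] (1 : K) = algebraMap Γ(Z, W) (Γ(Z, W) ⊗[O] K) b from rfl, AlgEquiv.commutes]
    exact hb
  have hker := Algebra.TensorProduct.lTensor_ker (A := Γ(Z, W)) (Algebra.ofId O K) hφ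
  have hmem : (b ⊗ₜ[O] (1 : O)) ∈
      RingHom.ker (Algebra.TensorProduct.map (AlgHom.id O Γ(Z, W)) (Algebra.ofId O K)) := by
    rw [RingHom.mem_ker, Algebra.TensorProduct.map_tmul, map_one]
    exact hb'
  rw [hker] at hmem
  let r := Algebra.TensorProduct.rid O O Γ(Z, W)
  have h2 := Ideal.mem_map_of_mem r.toRingHom hmem
  replace h2 := (Ideal.map_map (I := RingHom.ker (Algebra.ofId O K))
    (Algebra.TensorProduct.includeRight (R := O) (A := Γ(Z, W)) (B := O)).toRingHom r.toRingHom).le h2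
  have e2 : r.toRingHom.comp (Algebra.TensorProduct.includeRight (R := O) (A := Γ(Z, W)) (B := O)).toRingHom =
      scal π W := RingHom.ext fun a => by
    show r ((1 : Γ(Z, W)) ⊗ₜ a) = _
    simp [r]
    exact (Algebra.smul_def a (1 : Γ(Z, W))).trans (mul_one _)
  have e3 : RingHom.ker (Algebra.ofId O K) = RingHom.ker φ := rfl
  rw [e2, e3] at h2
  simpa [r] using h2

variable [IsProper f] [IsNoetherian X] [IsNoetherian Y]
  (hdim : ∀ y : Y, topologicalKrullDim ↥(f.fiber y) ≤ 1)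
  (hH1 : ∀ y : Y, Subsingleton (Coh.HH (f.fiber y) (Coh.structureModule (f.fiber y)) 1))

include hdim hH1 in
/-- A generator of `L` on the preimage of a neighbourhood of `y`. -/
theorem exists_gen_nhd {L : X.Modules} (hL : PicF.IsInvertible L) (y : Y)
    (τ : (Scheme.Modules.pullback (f.fiberι y)).obj L ≅ Coh.structureModule (f.fiber y)) :
    ∃ (V : Y.Opens) (t : Γ(L, f ⁻¹ᵁ V)), y ∈ V ∧ IsGen L t := by
  obtain ⟨V, hV, hyV, -⟩ := exists_isAffineOpen_mem_and_subset (U := (⊤ : Y.Opens)) (x := y) trivial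
  let O := Y.presheaf.stalk y
  let gS : Spec (CommRingCat.of O) ⟶ Y := Y.fromSpecStalk y
  let X₁ := pullback f gS
  let g' : X₁ ⟶ X := pullback.fst f gS
  let π : X₁ ⟶ Spec (CommRingCat.of O) := pullback.snd f gS
  letI : X₁.Over (Spec (CommRingCat.of O)) := ⟨π⟩
  have hsq : IsPullback g' π f gS := IsPullback.of_hasPullback _ _
  haveI : IsProper (X₁ ↘ Spec (CommRingCat.of O)) := MorphismProperty.of_isPullback hsq ‹IsProper f›
  haveI : Flat gS := inferInstanceAs (Flat (Y.fromSpecStalk y))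
  haveI : Flat g' := MorphismProperty.of_isPullback (P := @Flat) hsq.flip inferInstance
  haveI : IsNoetherianRing O := inferInstance
  let L₁ := (Scheme.Modules.pullback g').obj L
  -- the closed fibre
  let p₀ : f.fiber y ⟶ Spec (CommRingCat.of (Y.residueField y)) := f.fiberToSpecResidueField y
  let ρ : O →+* Y.residueField y := (Y.residue y).hom
  have hρ : Function.Surjective ρ := IsLocalRing.residue_surjective
  have hw : f.fiberι y ≫ f = (p₀ ≫ Spec.map (CommRingCat.ofHom ρ)) ≫ gS := by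
    rw [Category.assoc]
    exact pullback.condition
  let h : f.fiber y ⟶ X₁ := pullback.lift (f.fiberι y) (p₀ ≫ Spec.map (CommRingCat.ofHom ρ)) hw
  have hh : h ≫ g' = f.fiberι y := pullback.lift_fst _ _ _
  have hsq₀ : IsPullback h p₀ π (Spec.map (CommRingCat.ofHom ρ)) := by
    refine IsPullback.of_right ?_ (pullback.lift_snd _ _ _) hsq
    rw [hh]
    exact IsPullback.of_hasPullback f (Y.fromSpecResidueField y)
  haveI : IsClosedImmersion (Spec.map (CommRingCat.ofHom ρ)) := IsClosedImmersion.spec_of_surjective _ hρ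
  haveI : IsClosedImmersion h := MorphismProperty.of_isPullback (P := @IsClosedImmersion) hsq₀.flip inferInstance
  have hkerρ : RingHom.ker ρ = IsLocalRing.maximalIdeal O := IsLocalRing.ker_residue
  have h0 : ∀ a ∈ IsLocalRing.maximalIdeal O, ∀ W : X₁.Opens,
      h.app W (scal (X₁ ↘ Spec (CommRingCat.of O)) W a) = 0 := fun a ha W => by
    refine (app_scal hsq₀ W a).trans ?_
    rw [show ρ a = 0 from RingHom.mem_ker.1 (hkerρ ▸ ha), map_zero]
  have hrange : ∀ x : X₁, π.base x = IsLocalRing.closedPoint O → x ∈ Set.range h.base := fun x hx => by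
    rw [show h = hsq₀.isoPullback.hom ≫ pullback.fst _ _ from hsq₀.isoPullback_hom_fst.symm, Scheme.Hom.comp_base,
      TopCat.coe_comp, Function.Surjective.range_comp (show Function.Surjective hsq₀.isoPullback.hom from
        hsq₀.isoPullback.hom.homeomorph.surjective), Scheme.Pullback.range_fst]
    show π x ∈ Set.range (Spec.map (CommRingCat.ofHom ρ))
    rw [hx]
    refine ⟨(⊥ : PrimeSpectrum (Y.residueField y)), PrimeSpectrum.ext ?_⟩
    show Ideal.comap ρ ⊥ = IsLocalRing.maximalIdeal O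
    exact hkerρ
  have hd : topologicalKrullDim ↥(π.base ⁻¹' {IsLocalRing.closedPoint O}) ≤ (1 : ℕ) := by
    have hZy : ∀ z : X₁, π.base z = IsLocalRing.closedPoint O → f (g' z) = y := fun z hz => by
      rw [← Scheme.Hom.comp_apply, hsq.w, Scheme.Hom.comp_apply, hz]
      exact Scheme.fromSpecStalk_closedPoint
    let t : ↥(π.base ⁻¹' {IsLocalRing.closedPoint O}) → f.fiber y := fun z =>
      (f.fiberHomeo y).symm ⟨g' z.1, hZy z.1 z.2⟩
    haveI : IsPreimmersion g' := MorphismProperty.pullback_fst _ _ inferInstance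
    have ht : Topology.IsInducing t :=
      (f.fiberHomeo y).symm.isInducing.comp
        ((Topology.IsInducing.subtypeVal.of_comp_iff).1
          (g'.isEmbedding.toIsInducing.comp Topology.IsInducing.subtypeVal))
    exact ht.topologicalKrullDim_le.trans (by exact_mod_cast hdim y)
  obtain ⟨s, hs⟩ := exists_gen_top h h0
    (fun W hW b hb => hkerρ ▸ ker_app_of_surjective hρ hsq₀ hW b hb) hrange hd
    (H11Ample.isInvertible_pullback g' hL)
    ((Scheme.Modules.pullbackComp h g').app L ≪≫ (Scheme.Modules.pullbackCongr hh).app L ≪≫ τ) (hH1 y)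
  -- spreading out
  have hle : (⊤ : (Spec (CommRingCat.of O)).Opens) ≤ gS ⁻¹ᵁ V := fun z _ => by
    show gS z ∈ V
    have hz : gS z ⤳ y := by
      have := (Y.range_fromSpecStalk (x := y)).le ⟨z, rfl⟩
      exact this
    exact hz.mem_open V.2 hyV
  haveI : L.IsQuasicoherent := (isCoh_of_isInvertible hL).1
  haveI : ∀ k, Injective ((H10Coh.MRes.inj L₁).I k) := fun k => H10Coh.injective_mI _ k
  have hbc := H10Coh.FBC.bijective_locLin_zero hsq
    (H10Coh.FBC.gres (g' := g') (H10Coh.MRes.inj L) (H10Coh.MRes.inj L₁) L rfl rfl)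
    (isCoh_of_isInvertible hL).1 hle hV (isAffineOpen_top _)
  let A' := Γ(Spec (CommRingCat.of O), (⊤ : (Spec (CommRingCat.of O)).Opens))
  let φ : Γ(Y, V) →+* A' := (gS.appLE V ⊤ hle).hom
  letI := φ.toAlgebra
  let pt : Γ(L, f ⁻¹ᵁ V) → Γ(L₁, π ⁻¹ᵁ ⊤) := fun t =>
    H10Coh.rs L₁ (H10Coh.FBC.preimage_le_preimage hsq hle) (OmegaSh.pullSect g' L (f ⁻¹ᵁ V) t)
  have hfrac : ∀ c : A', ∃ d a : Γ(Y, V), IsUnit (φ d) ∧ φ d * c = φ a := by
    intro c
    haveI := hV.isLocalization_stalk ⟨y, hyV⟩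
    letI : Algebra Γ(Y, V) O := TopCat.Presheaf.algebra_section_stalk Y.presheaf (⟨y, hyV⟩ : V)
    obtain ⟨⟨a, d⟩, had⟩ := IsLocalization.surj (hV.primeIdealOf ⟨y, hyV⟩).asIdeal.primeCompl
      ((Scheme.ΓSpecIso (CommRingCat.of O)).hom c)
    have hφ : ∀ r, φ r = (Scheme.ΓSpecIso (CommRingCat.of O)).inv (algebraMap Γ(Y, V) O r) := fun r => by
      show (gS.appLE V ⊤ hle).hom r = _
      rw [Scheme.Hom.appLE, Scheme.fromSpecStalk_app hyV]
      have h5 : ∀ {U : (Spec (CommRingCat.of O)).Opens} (a : op ⊤ ⟶ op U) (b : op U ⟶ op (⊤ : (Spec (CommRingCat.of O)).Opens)),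
          (Spec (CommRingCat.of O)).presheaf.map a ≫ (Spec (CommRingCat.of O)).presheaf.map b = 𝟙 _ := fun a b => by
        rw [← Functor.map_comp, Subsingleton.elim (a ≫ b) (𝟙 _), CategoryTheory.Functor.map_id]
      simp only [Category.assoc]
      erw [h5, Category.comp_id]
      rfl
    refine ⟨d, a, ?_, ?_⟩
    · rw [hφ]
      exact (IsLocalization.map_units O d).map _
    · apply (Scheme.ΓSpecIso (CommRingCat.of O)).commRingCatIsoToRingEquiv.injective
      show (Scheme.ΓSpecIso (CommRingCat.of O)).hom (φ d * c) = (Scheme.ΓSpecIso (CommRingCat.of O)).hom (φ a)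
      rw [map_mul, hφ, hφ, ← CommRingCat.comp_apply, ← CommRingCat.comp_apply, Iso.inv_hom_id, mul_comm]
      exact had
  let P := (Scheme.Modules.pushforward π).obj ((H10Coh.MRes.inj L₁).Z 0)
  letI : Module Γ(Y, V) Γ((Scheme.Modules.pushforward π).obj ((H10Coh.MRes.inj L₁).Z 0), ⊤) :=
    Module.compHom _ φ
  haveI : IsScalarTower Γ(Y, V) A' Γ((Scheme.Modules.pushforward π).obj ((H10Coh.MRes.inj L₁).Z 0), ⊤) :=
    .of_algebraMap_smul fun _ _ => rfl
  have key : ∀ z, ∃ (d : Γ(Y, V)) (t : Γ(L, f ⁻¹ᵁ V)), IsUnit (φ d) ∧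
      (show Γ(P, ⊤) from pt t) =
        φ d • LinearMap.liftBaseChange A' (H10Coh.FBC.locLin gS (H10Coh.FBC.τPush hsq
          ((H10Coh.FBC.gres (g' := g') (H10Coh.MRes.inj L) (H10Coh.MRes.inj L₁) L rfl rfl).α 0)) hle) z := by
    intro z
    let ℓ := H10Coh.FBC.locLin gS (H10Coh.FBC.τPush hsq
      ((H10Coh.FBC.gres (g' := g') (H10Coh.MRes.inj L) (H10Coh.MRes.inj L₁) L rfl rfl).α 0)) hle
    have hℓ : ∀ t : Γ((Scheme.Modules.pushforward f).obj ((H10Coh.MRes.inj L).Z 0), V),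
        ℓ t = (show Γ(P, ⊤) from pt t) := fun t => by
      show H10Coh.rs P hle ((H10Coh.FBC.τPush hsq _).app V t) = _
      rw [H10Coh.FBC.τPush_app]
      exact H10Coh.rs_rs L₁ (H10Coh.FBC.preimage_swap hsq V).le ((Opens.map π.base).monotone hle)
        (OmegaSh.pullSect g' L (f ⁻¹ᵁ V) t)
    induction z using TensorProduct.induction_on with
    | zero =>
      refine ⟨1, 0, by rw [map_one]; exact isUnit_one, ?_⟩
      refine (hℓ 0).symm.trans ?_
      rw [map_zero, map_zero, smul_zero]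
    | tmul c t =>
      obtain ⟨d, a, hd, hda⟩ := hfrac c
      refine ⟨d, a • t, hd, ?_⟩
      rw [LinearMap.liftBaseChange_tmul, smul_smul, hda]
      exact (hℓ (a • t)).symm.trans (map_smul ℓ a t)
    | add z z' hz hz' =>
      obtain ⟨d, t, hd, ht⟩ := hz
      obtain ⟨d', t', hd', ht'⟩ := hz'
      let m : Γ((Scheme.Modules.pushforward f).obj ((H10Coh.MRes.inj L).Z 0), V) := t
      let m' : Γ((Scheme.Modules.pushforward f).obj ((H10Coh.MRes.inj L).Z 0), V) := t'
      refine ⟨d * d', d' • m + d • m', by rw [map_mul]; exact hd.mul hd', ?_⟩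
      refine (hℓ (d' • m + d • m')).symm.trans ?_
      refine ((map_add ℓ _ _).trans (congrArg₂ (· + ·) (map_smul ℓ d' m) (map_smul ℓ d m'))).trans ?_
      refine (congrArg₂ (fun u v => φ d' • u + φ d • v) ((hℓ m).trans ht) ((hℓ m').trans ht')).trans ?_
      rw [map_add, smul_add, map_mul, smul_smul, smul_smul, mul_comm (φ d') (φ d)]
  obtain ⟨z, hz⟩ := hbc.2 s
  obtain ⟨d, t, hd, ht⟩ := key z
  rw [hz] at ht
  -- generation near the fibre
  have hgen : IsGen L₁ (pt t) := by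
    have h1 : IsGen L₁ (π.app ⊤ (φ d) • L₁.presheaf.map (homOfLE (le_top : π ⁻¹ᵁ ⊤ ≤ ⊤)).op s) := by
      refine isGen_res ?_ (le_top : π ⁻¹ᵁ ⊤ ≤ ⊤) (hd.map _)
      have := isGen_gen s
      intro z hz
      have h2 := this z (hs.ge hz)
      rw [TopCat.Presheaf.germ_res_apply] at h2
      exact h2
    have h6 : L₁.presheaf.map (homOfLE (le_top : π ⁻¹ᵁ ⊤ ≤ ⊤)).op s = s := H10Coh.mres_self L₁ _ s
    rw [h6] at h1
    exact Eq.mpr (congrArg (IsGen L₁) ht) h1
  let T : Set X := {x | ∃ hx : x ∈ f ⁻¹ᵁ V,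
    Function.Bijective fun r : X.presheaf.stalk x => r • L.presheaf.germ (f ⁻¹ᵁ V) x hx t}
  have hchart : ∀ (x : X) (hx : x ∈ f ⁻¹ᵁ V), ∃ (U : X.Opens) (hU : U ≤ f ⁻¹ᵁ V) (e : Γ(L, U)) (p : Γ(X, U)),
      x ∈ U ∧ IsGen L e ∧ L.presheaf.map (homOfLE hU).op t = p • e := fun x hx => by
    obtain ⟨U, e, hxU, he⟩ := H11Ample.exists_gen hL x
    obtain ⟨p, hp⟩ := exists_coeff (he.res (inf_le_right : f ⁻¹ᵁ V ⊓ U ≤ U))
      (L.presheaf.map (homOfLE (inf_le_left : f ⁻¹ᵁ V ⊓ U ≤ f ⁻¹ᵁ V)).op t)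
    exact ⟨_, inf_le_left, _, p, ⟨hx, hxU⟩, he.res _, hp⟩
  have hT : IsOpen T := isOpen_iff_forall_mem_open.2 fun x ⟨hx, hb⟩ => by
    obtain ⟨U, hU, e, p, hxU, he, hp⟩ := hchart x hx
    refine ⟨X.basicOpen p, fun x' hx' => ?_, (X.basicOpen p).2, (bijective_smul_iff he p hxU).1 ?_⟩
    · have h2 := (bijective_smul_iff he p (X.basicOpen_le p hx')).2 hx'
      rw [← hp, TopCat.Presheaf.germ_res_apply] at h2
      exact ⟨hU (X.basicOpen_le p hx'), h2⟩
    · rw [← hp, TopCat.Presheaf.germ_res_apply]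
      exact hb
  let V₁ : Y.Opens := V ⊓ ⟨(f '' Tᶜ)ᶜ, (f.isClosedMap _ hT.isClosed_compl).isOpen_compl⟩
  have hy₁ : y ∈ V₁ := ⟨hyV, fun ⟨x, hxT, hxy⟩ => hxT (by
    have hx : x ∈ f ⁻¹ᵁ V := show f x ∈ V from hxy ▸ hyV
    obtain ⟨x₁, rfl⟩ : x ∈ Set.range g' := by
      rw [show g' = pullback.fst f gS from rfl, Scheme.Pullback.range_fst]
      exact ⟨IsLocalRing.closedPoint O, Scheme.fromSpecStalk_closedPoint.trans hxy.symm⟩
    obtain ⟨U, hU, e, p, hxU, he, hp⟩ := hchart (g' x₁) hx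
    refine ⟨hx, ?_⟩
    have h2 : g' x₁ ∈ X.basicOpen p := by
      show x₁ ∈ g' ⁻¹ᵁ X.basicOpen p
      rw [Scheme.preimage_basicOpen]
      refine (bijective_smul_iff (he.pullSect g') _ hxU).1 ?_
      rw [← OmegaSh.pullSect_smul, ← hp, pullSect_res, TopCat.Presheaf.germ_res_apply]
      have h3 := hgen x₁ trivial
      simp only [pt, H10Coh.rs] at h3
      rw [TopCat.Presheaf.germ_res_apply] at h3
      exact h3
    have h4 := (bijective_smul_iff he p hxU).2 h2
    rw [← hp, TopCat.Presheaf.germ_res_apply] at h4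
    exact h4)⟩
  refine ⟨V₁, L.presheaf.map (homOfLE (f.preimage_mono (inf_le_left : V₁ ≤ V))).op t, hy₁, fun x hx => ?_⟩
  have hxT : x ∈ T := by_contra fun hn => hx.2 ⟨x, hn, rfl⟩
  obtain ⟨_, hb⟩ := hxT
  rw [TopCat.Presheaf.germ_res_apply]
  exact hb

include hdim hH1 in
/-- The direct image of a fibrewise trivial invertible module is invertible. -/
theorem isInvertible_push (hO : ∀ U : Y.Opens, IsIso (f.app U)) {L : X.Modules} (hL : PicF.IsInvertible L)
    (htriv : ∀ y : Y, Nonempty ((Scheme.Modules.pullback (f.fiberι y)).obj L ≅ Coh.structureModule (f.fiber y))) :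
    PicF.IsInvertible ((Scheme.Modules.pushforward f).obj L) := by
  refine isInvertible_of_gen fun y => ?_
  obtain ⟨V, t, hy, ht⟩ := exists_gen_nhd f hdim hH1 hL y (htriv y).some
  refine ⟨V, (show Γ((Scheme.Modules.pushforward f).obj L, V) from t), hy, isGen_of_bijective fun W hW => ?_⟩
  haveI := hO W
  exact (ht.bijective (f.preimage_mono hW)).comp (ConcreteCategory.bijective_of_isIso (f.app W))

end Groth.Agent.LeadR1
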